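import Cfsg.Agent.H162.GaussSL
import Mathlib.Algebra.Polynomial.SpecificDegree
import Mathlib.LinearAlgebra.Matrix.Charpoly.Coeff

/-!
# `SL_3(2)` and `SL_3(3)`: products of two irreducible elements (S2443, S4171), parity lemma for `SL_3(2)`

* `m3` : `|K| ∈ {2, 3}` : every `L U` is `X Y` with `X, Y` irreducible, `charpoly Y ∈ {charpoly X, charpoly X⁻¹}`;
* `parity` : `|K| = 2` : every `L U` is conjugate to some `L' U'` with `L'_{k+1,k} = U'_{k,k+1}`.
-/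

set_option autoImplicit false
set_option linter.unusedSectionVars false

namespace Cfsg.Agent.H374.Ore.Sl3

open Matrix Polynomial Cfsg.Agent.H162.GaussSL

/-- the digit `j` to the base `p` -/
def dg (p c j : ℕ) : ℕ := c / p ^ j % p

/-- the numerical test: `X Y = L U`, `det X = det Y = 1`, no roots, types `(f, f)` or `(f, f*)` -/
def tst (p m a b c x y z : ℕ) (e : ℕ → ℕ) : Bool :=
  let X := fun i j => e (3 * i + j)
  let Y := fun i j => e (9 + (3 * i + j))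
  let P := fun i j => X i 0 * Y 0 j + X i 1 * Y 1 j + X i 2 * Y 2 j
  let t := fun Z : ℕ → ℕ → ℕ => Z 0 0 + Z 1 1 + Z 2 2
  let s := fun Z : ℕ → ℕ → ℕ => Z 0 0 * Z 1 1 + Z 0 0 * Z 2 2 + Z 1 1 * Z 2 2 +
    m * (Z 0 1 * Z 1 0 + Z 0 2 * Z 2 0 + Z 1 2 * Z 2 1)
  let d := fun Z : ℕ → ℕ → ℕ => Z 0 0 * Z 1 1 * Z 2 2 + Z 0 1 * Z 1 2 * Z 2 0 + Z 0 2 * Z 1 0 * Z 2 1 +
    m * (Z 0 0 * Z 1 2 * Z 2 1 + Z 0 1 * Z 1 0 * Z 2 2 + Z 0 2 * Z 1 1 * Z 2 0)
  (P 0 0 % p == 1 % p) && (P 0 1 % p == x % p) && (P 0 2 % p == y % p) &&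
  (P 1 0 % p == a % p) && (P 1 1 % p == (a * x + 1) % p) && (P 1 2 % p == (a * y + z) % p) &&
  (P 2 0 % p == b % p) && (P 2 1 % p == (b * x + c) % p) && (P 2 2 % p == (b * y + c * z + 1) % p) &&
  (d X % p == 1 % p) && (d Y % p == 1 % p) &&
  ((List.range p).all fun n => (n ^ 3 + m * (t X * n ^ 2) + s X * n + m) % p != 0) &&
  ((List.range p).all fun n => (n ^ 3 + m * (t Y * n ^ 2) + s Y * n + m) % p != 0) &&
  (((t Y % p == t X % p) && (s Y % p == s X % p)) || ((t Y % p == s X % p) && (s Y % p == t X % p)))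

/-- the test for number `i` of the table `T` -/
def tstT (p T i : ℕ) : Bool :=
  tst p (p - 1) (dg p i 0) (dg p i 1) (dg p i 2) (dg p i 3) (dg p i 4) (dg p i 5)
    (dg p (T / (p ^ 18) ^ i % p ^ 18))

/-- the table for `SL_3(2)` -/
def T2 : ℕ := 0xf9bd3bcccfa3d3ccccef2b3cd8cf32b3bd8cb1b329cccbde32fd8cbbbd2fcccb93d29d8c7bbd1fbec7a3d1cbec72e31faac7ee31caac2f2b0beac2fe30bd8c39bd0cd8c393d31ae2f2b33d8f4eeb33d6f4f2e33baaceee33caacbbe32e58ca7b32c4ccbbb32fcf4a7e32f6f4717b198f47d7b19ef47d2b1c58c712b1f58c39e30e58c392b0e6ac31e30bcf467d88bef4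

/-- the table for `SL_3(3)` -/
def T3 : ℕ :=
  0x3836489301e16472febe133d96a26e4b3cb13dbbcd782ad2b02047c3cf5e62bb56123b7d025367fd39dc548d7ef22011d5c5282bb3b93db6520705af96461c54042fecdfd2121fb6757f13fa19d449919dbfd40cc83e5f00faf1783f16846c2b699682c94c68704dacdcedbc5907f76b691ff5309acfd88f263bce3952cadb1eae18df1a1f0893be7070d9c5c27317c2069890bcd60d43733e9ce941aff2e7b56e5acc210c0f03d0673941a8723b874ecf9c81f3881f1435d9a03356008cd7ed5469a36f0f8f2d82daf7265925df33b0f0d2b0520b7e86ae7ee7386cae2921d4cc567ce3f9768b32461fe750bcfd0434eec8879d5fadad199761cebc9b33771eb599f1ccb7bfb726deb35de0f89f07400b6b5808143a21490382bac3237b1af11d8ff8628eb1b787f1ba0f6412dfffff011497e8f02bb7e921af87c0f5ebbb3a7c30e59cc38c4e2fd90687743f11505de28667385cc40ea8f6541614d0af420a5ff7689dda2358fffbf857a185e6bb6207095d8da0e45bfdeedc192441915ca0dff7e62e60fc285161e135c615c867d57b61e6adcf1a33b6390116b2bf59ab573aeb132612432b2c779e52035aaca58d6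5bd97d7784cd241b85f495d97b17cbef6b9f2e04be37def4261a0615db9e167845d4d06c871706832cf1b0636a01e6ca84d732c6d3a12d0e095c27fb8bf3da148589574a0fea0317b35f0d218199d0859b9a50aa5d1334b1993b28fa78f78abf4a359f1eceda6f9181bb3ebf3c724c9784a54c6638dd828126ca8fd446ce7f2849c502ae97ba5d893e58405fe806a332af1d5b84fb2e902296ca01764b5378858b551d284be738eca36f5345d3aadf84c5ece89cb0b4d3aacae8458fe14b6247d73cf485dd827231806f4ead0b275111ae0092eb59edc447faa3c053e15ca7f7abd6792c6ee622578216619031dae3797e5d686bac6df997f36ad299e1f6d84841c69d0747e77840363e4d6b0b293f1f64f6b9b5edd299096685e9500e17d019ea64a310234cb9c49494a66b333f8fc5aac2d8b5372726273fd98ac5c074ee97984c05c92b5f8f015927fc8fa2ef5cc225cff481f69075ed3d9a5f2d3c27edf36da61a7dcabae64e5d58a2fd6260d4d6127394e1a0c01a393944e1189c06191c3744719dcb4482ebc84956e035901e26da610865554d8b46c978e0ebb36f6804fbb83a44470419fe106704c9e4b0513d71bd80bc14cf934315e139c5dd3b1a612fecefd1880d390e0728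a09f8006c3e8b957cfeedfd78d960e96922ff79f7792116031c015b53cb60bddf1205b786200d9ed60f3a77ee1e017f2aa93388dac54ca52b03639fe31330dd4c344103cc6b847518429802d7409db116f9401fa29088d9d028f5429d5ca239f7ebd4643cf97c70d4124e787dde027535c698cdbdd853e97c9592adefe91b68d0f56b690720ee8ec2c0b51b2e6ec4a3d07255e9d8c5adb6608a50ee9484ebcb8bd2dc0e13b77466edeecc73cd49fd26a309867674470bf8d1881efe361c63067c3a77b109ef63a5641bd7df276e7b4ba79d9389a3dd1a26035fe09504f841d3512af6607ff6b2562fe750257d864878f4fdb69b2770c9767cdbff4c60fce4eade4d816b870c709f7dc2539f1eb0dc018d964267b5238fd3b46a8b2a85fa719c0c9257a19b7a3b354905ab546701895a81517956a2d337aece376698e774134601e9ccf63084a55bddad5779273f2cee76af6a8e193c86c3cae72eec2e51b3876d4e236aefae34d497bca8c207a1a25807733f9e7d6180ac0a257fe0d0efc2e96c5066466aa3d7c376715f9184bbd58dd5dd6c66af04209035559eb39a79ed0c724b314ff5ca4bff1430c272a82fb39f968ab8b294e3cdc12648970c8b0bd36b0b0d7c9f5284e471cd97d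7d945e32763b3de3a0f69bf4012643117547450ceefaa05821f6084a8947b18a9c61a40c480a2edf19f7d7834a80d1bb4aee093743779c3594ac3cb135c65b2a4761cd7962fe0fd79053d9381b94683e32d60246212ea310f3dd5bcdcaba9ee1e23c6400a975cbf236d3aeb188c25406bd27f4ea9d4ba4c318a0c882adcb83482d0bbba78597a0e92c612de2931e6fe21bdeb0ab61c6077534aa7c1db9a490bdccea32d22257a41d6424cb675e255faf2007ca341c54099d9285ba3541cc84f693f8e9efa91d9981f64f9bcceb64e7dc21f02610fb2e47dae54c8fe052d9f6b616619db2b6f7c6183f8d1fa529fd298ce67eaaf03ccff0a8421cf9424825ab7c3ef212a73507bdbce79c36deee8d1bfcdcbce7ba242f0c10873db1820da9cdeddac0c0e2bef939df0b3d17e28008f4b60bf107dedcd6faa20ee9895000b665af805733b14df8f3cfac003365de1924fad5d0a1deb96f9b512d3e3efc21ea26084e0bdb05284753e27570679c822c569462f55185ee219b254baf77ca42233b60025d5917cfcd9884c73c3be5100cb84c0ed821b0cc9c0d0383ecf1ec347cd8af78c9dfe05eca842d7f4ff0f0f319b336095f9b6cfb1d7e9dc84820d5ffa47e4e33090e933889acd8bdb5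1eb86a58c62fd1a7b811e111d8b8c6a3879b829ba623d164e1f1378601a6e33b82ba20d3ff195966dad367f5906fccd753abd790f49dcf4f632948fe4a558fccd6868baadbf02512d9a332868812c1103a83f5ee0e6a8b101d3ff12eede3623ea93958bebbc464857755384485bd2fc81fe78fb44d69f0bae94758fb4039436893d3b368ed5cb1c32ff7136b988fdcf8d0824aa175b19b57a444c1259e3016ee1235c7d9c290a86e795c7d0bb5509a7dcfb551957f9bb0a0039d0b3db2b18560a80cb75989a45ce85af8b7ec4b3fa929f8216b77bcc696a6b6fecc3288bf12fb9c8c095a21627086c6301b02644c168bf3e4bca146f4006829b74c8fe353571ab172b92500bcdde8f3a7e4247c7de9d832b0c1f1e71c4445d19570bdbfb2c6e73a46b18876c825d8c7654845c0840d38e483cd0e4dbb65390250294a2027dfae7f0bc9e6a89fd5bc19947fd29cc72abf5c17bf0804925325fe9bd58f36a54c175372e8532014c681e63a3b5d86bc61eb99cc2ea3bbf35cfd822c312b7728cba1867e32cfab7109e9adcb387634b675d018fdbc9969795897ede2e3f77a9fba1da297e55720937c2de49ba23ba58e21acc01ed4d2ae61e59da0a085618e9d1b7725bb065aa4cca0a96267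52f0959922abbb0336d06996125c86197f5ba7377a9bb24f37e364436b6156188dbbd385631af895c2481981c30da6649303399649e490c8e6f7e909b30fce0d7a029b0c499027031973edcb2003a55d4a9a3c8043e4c9769b7429adfa01c836d9d1e035b0b77d3f8347867b96e10e2bfec3a7b265ff2492a4fa90981197f6b600970fdbcd996e65e13faf88d8f5c559906d93ec708dca4cae30316201f3a8c036b0d55a347281663056aedabfadf841fbadd6450c85f4990f205da7bd674671293410d229438122e9acce69c1a88b7860d3ce5b967c898b9154e26e27e7625cb0a4b5ca547f124d98f63396363b2be3aa02046c4b5fc0ca9e7525de940f20c3716428b935fff05a3a57b2a9d24b776e733de06be2f0f403f7995cfbb4116d68d687900841ef8b3867cfc745c592e736064495747b8605afc185ac5a67a82691d9231e4bfe1ff35d7d40c67c1022699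

theorem all2 : (List.range 64).all (tstT 2 T2) = true := by decide +kernel

theorem all3 : (List.range 729).all (tstT 3 T3) = true := by decide +kernel

/-- the parity test: `G (L U) = (L' U') G` -/
def ptst (a b c x y z : ℕ) (e : ℕ → ℕ) : Bool :=
  ((e 0 * 1 + e 1 * a + e 2 * b) % 2 == (1 * e 0 + e 9 * e 3 + e 12 * e 6) % 2) &&
  ((e 0 * x + e 1 * (a * x + 1) + e 2 * (b * x + c)) % 2 == (1 * e 1 + e 9 * e 4 + e 12 * e 7) % 2) &&
  ((e 0 * y + e 1 * (a * y + z) + e 2 * (b * y + c * z + 1)) % 2 == (1 * e 2 + e 9 * e 5 + e 12 * e 8) % 2) &&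
  ((e 3 * 1 + e 4 * a + e 5 * b) % 2 == (e 9 * e 0 + (e 9 * e 9 + 1) * e 3 + (e 9 * e 12 + e 11) * e 6) % 2) &&
  ((e 3 * x + e 4 * (a * x + 1) + e 5 * (b * x + c)) % 2 == (e 9 * e 1 + (e 9 * e 9 + 1) * e 4 + (e 9 * e 12 + e 11) * e 7) % 2) &&
  ((e 3 * y + e 4 * (a * y + z) + e 5 * (b * y + c * z + 1)) % 2 == (e 9 * e 2 + (e 9 * e 9 + 1) * e 5 + (e 9 * e 12 + e 11) * e 8) % 2) &&
  ((e 6 * 1 + e 7 * a + e 8 * b) % 2 == (e 10 * e 0 + (e 10 * e 9 + e 11) * e 3 + (e 10 * e 12 + e 11 * e 11 + 1) * e 6) % 2) &&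
  ((e 6 * x + e 7 * (a * x + 1) + e 8 * (b * x + c)) % 2 == (e 10 * e 1 + (e 10 * e 9 + e 11) * e 4 + (e 10 * e 12 + e 11 * e 11 + 1) * e 7) % 2) &&
  ((e 6 * y + e 7 * (a * y + z) + e 8 * (b * y + c * z + 1)) % 2 == (e 10 * e 2 + (e 10 * e 9 + e 11) * e 5 + (e 10 * e 12 + e 11 * e 11 + 1) * e 8) % 2) &&
  ((e 0 * e 4 * e 8 + e 1 * e 5 * e 6 + e 2 * e 3 * e 7 +
    (e 0 * e 5 * e 7 + e 1 * e 3 * e 8 + e 2 * e 4 * e 6)) % 2 == 1 % 2)

/-- the test for number `i` of the parity table `T` -/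
def ptstT (T i : ℕ) : Bool :=
  ptst (dg 2 i 0) (dg 2 i 1) (dg 2 i 2) (dg 2 i 3) (dg 2 i 4) (dg 2 i 5) (dg 2 (T / (2 ^ 13) ^ i % 2 ^ 13))

/-- the parity table -/
def TP : ℕ :=
  0xffa2b31fe837453e7ab19a974a54e5dd3cf87749ea4bd38e449cd7a7af15e8674fd629713a97dacf649d3358274b6a5fd22c448c55665d3ef96cceea67d1ba8466f3a57515a97ecaba5553ae4454c2e71d31190acc6a73d11a8462dba4351fa908c83a41520c4054

theorem allP : (List.range 64).all (ptstT TP) = true := by decide +kernel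


/-! ### From the tables to the field -/

section

variable {K : Type*} [Field K]

/-- the trace -/
def tr3 (M : Matrix (Fin 3) (Fin 3) K) : K := M 0 0 + M 1 1 + M 2 2

/-- the sum of the principal minors of order two -/
def ms3 (M : Matrix (Fin 3) (Fin 3) K) : K :=
  M 0 0 * M 1 1 + M 0 0 * M 2 2 + M 1 1 * M 2 2 - (M 0 1 * M 1 0 + M 0 2 * M 2 0 + M 1 2 * M 2 1)

theorem charpoly3 (M : Matrix (Fin 3) (Fin 3) K) :
    M.charpoly = X ^ 3 - C (tr3 M) * X ^ 2 + C (ms3 M) * X - C M.det := by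
  rw [Matrix.charpoly, Matrix.det_fin_three, Matrix.det_fin_three]
  simp only [charmatrix_apply, tr3, ms3, diagonal_apply, Fin.isValue, if_true, map_add, map_sub, map_mul,
    show (0 : Fin 3) ≠ 1 by decide, show (0 : Fin 3) ≠ 2 by decide, show (1 : Fin 3) ≠ 0 by decide,
    show (1 : Fin 3) ≠ 2 by decide, show (2 : Fin 3) ≠ 0 by decide, show (2 : Fin 3) ≠ 1 by decide, if_false]
  ring

theorem charpoly_inv3 (A : SpecialLinearGroup (Fin 3) K) :
    (A⁻¹).1.charpoly = X ^ 3 - C (ms3 A.1) * X ^ 2 + C (tr3 A.1) * X - C 1 := by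
  have h1 : (A⁻¹).1 = A.1.adjugate := Matrix.SpecialLinearGroup.coe_inv A
  have hd : A.1.det = 1 := A.2
  rw [charpoly3, (A⁻¹).2, h1]
  have e1 : tr3 A.1.adjugate = ms3 A.1 := by
    rw [Matrix.adjugate_fin_three]
    simp [tr3, ms3]
    ring
  have e2 : ms3 A.1.adjugate = tr3 A.1 * A.1.det := by
    rw [Matrix.adjugate_fin_three, Matrix.det_fin_three]
    simp [tr3, ms3]
    ring
  rw [e1, e2, hd, mul_one]

theorem irr3 (M : Matrix (Fin 3) (Fin 3) K) (hd : M.det = 1)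
    (h : ∀ k : K, k ^ 3 - tr3 M * k ^ 2 + ms3 M * k - 1 ≠ 0) : Irreducible M.charpoly := by
  have hn : M.charpoly.natDegree = 3 := by
    rw [Matrix.charpoly_natDegree_eq_dim, Fintype.card_fin]
  rw [(Matrix.charpoly_monic M).irreducible_iff_roots_eq_zero_of_degree_le_three (by omega) (by omega)]
  rw [Multiset.eq_zero_iff_forall_notMem]
  intro k hk
  refine h k ?_
  have h1 := (mem_roots'.1 hk).2
  rw [charpoly3, hd] at h1
  simpa [IsRoot] using h1

/-- the matrix of a list of digits -/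
def mt (K : Type*) [Field K] (e : ℕ → ℕ) : Matrix (Fin 3) (Fin 3) K := fun i j => (e (3 * i + j) : K)

variable {p : ℕ} [CharP K p]

include p in
theorem cast_eq {n k : ℕ} (h : n % p = k % p) : (n : K) = k := (CharP.cast_eq_iff_mod_eq K p).2 h

/-- the sum of the minors in digits -/
def sn (m : ℕ) (e : ℕ → ℕ) : ℕ := e 0 * e 4 + e 0 * e 8 + e 4 * e 8 + m * (e 1 * e 3 + e 2 * e 6 + e 5 * e 7)

/-- the trace in digits -/
def tn (e : ℕ → ℕ) : ℕ := e 0 + e 4 + e 8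

theorem tr3_mt (e : ℕ → ℕ) : tr3 (mt K e) = (tn e : K) := by
  simp only [tr3, mt, tn]
  norm_num

theorem ms3_mt {m : ℕ} (hm : (m : K) = -1) (e : ℕ → ℕ) : ms3 (mt K e) = (sn m e : K) := by
  simp only [ms3, mt, sn]
  norm_num
  rw [hm]
  ring

include p in
theorem irr_mt {m : ℕ} (hm : (m : K) = -1) (hall : ∀ k : K, ∃ n < p, (n : K) = k) {e : ℕ → ℕ}
    (hd : (mt K e).det = 1)
    (h : ∀ n < p, (n ^ 3 + m * (tn e * n ^ 2) + sn m e * n + m) % p ≠ 0) : Irreducible (mt K e).charpoly := by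
  refine irr3 _ hd fun k hk => ?_
  obtain ⟨n, hn, rfl⟩ := hall k
  refine h n hn ((CharP.cast_eq_zero_iff K p _).1 ?_ |> Nat.mod_eq_zero_of_dvd)
  rw [tr3_mt, ms3_mt hm] at hk
  push_cast
  rw [hm]
  linear_combination hk

theorem mul_mt (e f : ℕ → ℕ) {m00 m01 m02 m10 m11 m12 m20 m21 m22 : K}
    (h00 : (e 0 * f 0 + e 1 * f 3 + e 2 * f 6 : K) = m00) (h01 : (e 0 * f 1 + e 1 * f 4 + e 2 * f 7 : K) = m01)
    (h02 : (e 0 * f 2 + e 1 * f 5 + e 2 * f 8 : K) = m02) (h10 : (e 3 * f 0 + e 4 * f 3 + e 5 * f 6 : K) = m10)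
    (h11 : (e 3 * f 1 + e 4 * f 4 + e 5 * f 7 : K) = m11) (h12 : (e 3 * f 2 + e 4 * f 5 + e 5 * f 8 : K) = m12)
    (h20 : (e 6 * f 0 + e 7 * f 3 + e 8 * f 6 : K) = m20) (h21 : (e 6 * f 1 + e 7 * f 4 + e 8 * f 7 : K) = m21)
    (h22 : (e 6 * f 2 + e 7 * f 5 + e 8 * f 8 : K) = m22) :
    mt K e * mt K f = !![m00, m01, m02; m10, m11, m12; m20, m21, m22] := by
  ext i j
  rw [Matrix.mul_apply, Fin.sum_univ_three]
  fin_cases i <;> fin_cases j
  · exact h00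
  · exact h01
  · exact h02
  · exact h10
  · exact h11
  · exact h12
  · exact h20
  · exact h21
  · exact h22

include p in
theorem sound {m a b c x y z : ℕ} (hm : (m : K) = -1)
    (hall : ∀ k : K, ∃ n < p, (n : K) = k) {e : ℕ → ℕ} (h : tst p m a b c x y z e = true) :
    ∃ A B : SpecialLinearGroup (Fin 3) K,
      A.1 * B.1 = !![1, (x : K), (y : K); (a : K), a * x + 1, a * y + z; (b : K), b * x + c, b * y + c * z + 1] ∧
      Irreducible A.1.charpoly ∧ Irreducible B.1.charpoly ∧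
      (B.1.charpoly = A.1.charpoly ∨ B.1.charpoly = (A⁻¹).1.charpoly) := by
  simp only [tst, Bool.and_eq_true, Bool.or_eq_true, beq_iff_eq, bne_iff_ne, List.all_eq_true, List.mem_range] at h
  obtain ⟨⟨⟨⟨⟨⟨⟨⟨⟨⟨⟨⟨⟨h00, h01⟩, h02⟩, h10⟩, h11⟩, h12⟩, h20⟩, h21⟩, h22⟩, hdA⟩, hdB⟩, hrA⟩, hrB⟩, hty⟩ := h
  have dA : (mt K e).det = 1 := by
    have := cast_eq (K := K) hdA
    push_cast at this
    rw [hm] at this
    rw [Matrix.det_fin_three]
    simp only [mt]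
    norm_num
    linear_combination this
  have dB : (mt K fun n => e (9 + n)).det = 1 := by
    have := cast_eq (K := K) hdB
    push_cast at this
    rw [hm] at this
    rw [Matrix.det_fin_three]
    simp only [mt]
    norm_num
    linear_combination this
  have i1 := irr_mt (p := p) hm hall dA hrA
  have i2 := irr_mt (p := p) hm hall dB hrB
  have g00 := cast_eq (K := K) h00
  have g01 := cast_eq (K := K) h01
  have g02 := cast_eq (K := K) h02
  have g10 := cast_eq (K := K) h10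
  have g11 := cast_eq (K := K) h11
  have g12 := cast_eq (K := K) h12
  have g20 := cast_eq (K := K) h20
  have g21 := cast_eq (K := K) h21
  have g22 := cast_eq (K := K) h22
  push_cast at g00 g01 g02 g10 g11 g12 g20 g21 g22
  have hmul := mul_mt e (fun n => e (9 + n)) g00 g01 g02 g10 g11 g12 g20 g21 g22
  refine ⟨⟨mt K e, dA⟩, ⟨mt K fun n => e (9 + n), dB⟩, hmul, i1, i2, ?_⟩
  have hc := charpoly_inv3 (⟨mt K e, dA⟩ : SpecialLinearGroup (Fin 3) K)
  rcases hty with ⟨h1, h2⟩ | ⟨h1, h2⟩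
  · left
    have g1 : tr3 (mt K fun n => e (9 + n)) = tr3 (mt K e) := by
      rw [tr3_mt, tr3_mt]
      exact cast_eq (K := K) h1
    have g2 : ms3 (mt K fun n => e (9 + n)) = ms3 (mt K e) := by
      rw [ms3_mt hm, ms3_mt hm]
      exact cast_eq (K := K) h2
    show (mt K fun n => e (9 + n)).charpoly = (mt K e).charpoly
    rw [charpoly3, charpoly3, dA, dB, g1, g2]
  · right
    have g1 : tr3 (mt K fun n => e (9 + n)) = ms3 (mt K e) := by
      rw [tr3_mt, ms3_mt hm]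
      exact cast_eq (K := K) h1
    have g2 : ms3 (mt K fun n => e (9 + n)) = tr3 (mt K e) := by
      rw [ms3_mt hm, tr3_mt]
      exact cast_eq (K := K) h2
    refine Eq.trans ?_ hc.symm
    show (mt K fun n => e (9 + n)).charpoly =
      X ^ 3 - C (ms3 (mt K e)) * X ^ 2 + C (tr3 (mt K e)) * X - C 1
    rw [charpoly3, dB, g1, g2]

theorem exists_cast [Finite K] {p : ℕ} [hp : Fact p.Prime] (hK : Nat.card K = p) : CharP K p ∧ ∀ k : K, ∃ n < p, (n : K) = k := by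
  have := Fintype.ofFinite K
  have hK' : Fintype.card K = p := by rw [← Nat.card_eq_fintype_card, hK]
  let e := ZMod.ringEquivOfPrime K hp.out hK'
  have h1 : CharP K p := charP_of_injective_ringHom (f := e.toRingHom) e.injective p
  refine ⟨h1, fun k => ⟨(e.symm k).val, ZMod.val_lt _, ?_⟩⟩
  have h2 : e ((e.symm k).val : ZMod p) = k := by
    rw [ZMod.natCast_zmod_val, RingEquiv.apply_symm_apply]
  rwa [map_natCast] at h2
  
/-- entries of `L` and `U` -/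
theorem mul_LU {L U : SpecialLinearGroup (Fin 3) K} (hL : L ∈ LT 3 K) (hU : U ∈ UT 3 K) :
    (L * U).1 = !![1, U.1 0 1, U.1 0 2; L.1 1 0, L.1 1 0 * U.1 0 1 + 1, L.1 1 0 * U.1 0 2 + U.1 1 2;
      L.1 2 0, L.1 2 0 * U.1 0 1 + L.1 2 1, L.1 2 0 * U.1 0 2 + L.1 2 1 * U.1 1 2 + 1] := by
  rw [mem_LT] at hL
  rw [mem_UT] at hU
  change L.1 * U.1 = _
  ext i j
  rw [Matrix.mul_apply, Fin.sum_univ_three]
  have l01 := hL.1 0 1 (by decide)
  have l02 := hL.1 0 2 (by decide)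
  have l12 := hL.1 1 2 (by decide)
  have u10 := hU.1 1 0 (by decide)
  have u20 := hU.1 2 0 (by decide)
  have u21 := hU.1 2 1 (by decide)
  have l0 := hL.2 0
  have l1 := hL.2 1
  have l2 := hL.2 2
  have u0 := hU.2 0
  have u1 := hU.2 1
  have u2 := hU.2 2
  fin_cases i <;> fin_cases j <;> simp [l01, l02, l12, u10, u20, u21, l0, l1, l2, u0, u1, u2]

end

/-! ### The theorems -/

theorem enc {p : ℕ} (hp : p = 2 ∨ p = 3) {a b c x y z : ℕ} (ha : a < p) (hb : b < p) (hc : c < p) (hx : x < p)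
    (hy : y < p) (hz : z < p) : ∃ i < p ^ 6, dg p i 0 = a ∧ dg p i 1 = b ∧ dg p i 2 = c ∧ dg p i 3 = x ∧
      dg p i 4 = y ∧ dg p i 5 = z := by
  refine ⟨a + p * b + p ^ 2 * c + p ^ 3 * x + p ^ 4 * y + p ^ 5 * z, ?_⟩
  rcases hp with rfl | rfl
  · simp only [dg]
    norm_num
    omega
  · simp only [dg]
    norm_num
    omega

theorem tst_of {p : ℕ} (hp : p = 2 ∨ p = 3) {a b c x y z : ℕ} (ha : a < p) (hb : b < p) (hc : c < p) (hx : x < p)
    (hy : y < p) (hz : z < p) : ∃ e : ℕ → ℕ, tst p (p - 1) a b c x y z e = true := by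
  obtain ⟨i, hi, h0, h1, h2, h3, h4, h5⟩ := enc hp ha hb hc hx hy hz
  rcases hp with rfl | rfl
  · have h := all2
    rw [List.all_eq_true] at h
    have h6 := h i (List.mem_range.2 (by norm_num at hi; exact hi))
    rw [tstT, h0, h1, h2, h3, h4, h5] at h6
    exact ⟨_, h6⟩
  · have h := all3
    rw [List.all_eq_true] at h
    have h6 := h i (List.mem_range.2 (by norm_num at hi; exact hi))
    rw [tstT, h0, h1, h2, h3, h4, h5] at h6
    exact ⟨_, h6⟩

/-- **`SL_3(2)`, `SL_3(3)`: every `L U` is a product of two irreducible elements `A`, `B` with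
`charpoly B ∈ {charpoly A, charpoly A⁻¹}`.** -/
theorem m3 {K : Type*} [Field K] [Finite K] (hK : Nat.card K = 2 ∨ Nat.card K = 3)
    {L U : SpecialLinearGroup (Fin 3) K} (hL : L ∈ LT 3 K) (hU : U ∈ UT 3 K) :
    ∃ A B : SpecialLinearGroup (Fin 3) K, L * U = A * B ∧ Irreducible A.1.charpoly ∧ Irreducible B.1.charpoly ∧
      (B.1.charpoly = A.1.charpoly ∨ B.1.charpoly = (A⁻¹).1.charpoly) := by
  obtain ⟨p, hp, hpK⟩ : ∃ p, (p = 2 ∨ p = 3) ∧ Nat.card K = p := ⟨_, hK, rfl⟩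
  have hpr : p.Prime := by rcases hp with rfl | rfl <;> norm_num
  have : Fact p.Prime := ⟨hpr⟩
  obtain ⟨hch, hall⟩ := exists_cast hpK
  have hm : ((p - 1 : ℕ) : K) = -1 := by
    rw [Nat.cast_sub hpr.one_le, CharP.cast_eq_zero, Nat.cast_one, zero_sub]
  obtain ⟨a, ha, ea⟩ := hall (L.1 1 0)
  obtain ⟨b, hb, eb⟩ := hall (L.1 2 0)
  obtain ⟨c, hc, ec⟩ := hall (L.1 2 1)
  obtain ⟨x, hx, ex⟩ := hall (U.1 0 1)
  obtain ⟨y, hy, ey⟩ := hall (U.1 0 2)
  obtain ⟨z, hz, ez⟩ := hall (U.1 1 2)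
  obtain ⟨e, he⟩ := tst_of hp ha hb hc hx hy hz
  obtain ⟨A, B, h1, h2, h3, h4⟩ := sound (K := K) (p := p) hm hall he
  refine ⟨A, B, ?_, h2, h3, h4⟩
  apply Subtype.ext
  rw [mul_LU hL hU, ← ea, ← eb, ← ec, ← ex, ← ey, ← ez]
  exact h1.symm

/-- lower unitriangular -/
def lo3 {K : Type*} [Field K] (a b c : K) : SpecialLinearGroup (Fin 3) K :=
  ⟨!![1, 0, 0; a, 1, 0; b, c, 1], by rw [Matrix.det_fin_three]; simp⟩

/-- upper unitriangular -/
def up3 {K : Type*} [Field K] (x y z : K) : SpecialLinearGroup (Fin 3) K :=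
  ⟨!![1, x, y; 0, 1, z; 0, 0, 1], by rw [Matrix.det_fin_three]; simp⟩

theorem lo3_mem {K : Type*} [Field K] (a b c : K) : lo3 a b c ∈ LT 3 K := by
  rw [mem_LT]
  constructor
  · intro i j hij
    fin_cases i <;> fin_cases j <;> first | rfl | (exact absurd hij (by decide))
  · intro i
    fin_cases i <;> rfl

theorem up3_mem {K : Type*} [Field K] (x y z : K) : up3 x y z ∈ UT 3 K := by
  rw [mem_UT]
  constructor
  · intro i j hij
    fin_cases i <;> fin_cases j <;> first | rfl | (exact absurd hij (by decide))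
  · intro i
    fin_cases i <;> rfl

theorem sound_par {K : Type*} [Field K] [CharP K 2] {a b c x y z : ℕ} {e : ℕ → ℕ}
    (h : ptst a b c x y z e = true) :
    ∃ (G : SpecialLinearGroup (Fin 3) K) (a' b' c' y' : K),
      G.1 * !![1, (x : K), (y : K); (a : K), a * x + 1, a * y + z; (b : K), b * x + c, b * y + c * z + 1] =
        !![1, a', y'; a', a' * a' + 1, a' * y' + c'; b', b' * a' + c', b' * y' + c' * c' + 1] * G.1 := by
  simp only [ptst, Bool.and_eq_true, beq_iff_eq] at h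
  obtain ⟨⟨⟨⟨⟨⟨⟨⟨⟨h00, h01⟩, h02⟩, h10⟩, h11⟩, h12⟩, h20⟩, h21⟩, h22⟩, hd⟩ := h
  have dA : (mt K e).det = 1 := by
    have h2 : (2 : K) = 0 := CharTwo.two_eq_zero
    have h3 := cast_eq (K := K) (p := 2) hd
    push_cast at h3
    rw [Matrix.det_fin_three]
    simp only [mt]
    norm_num
    linear_combination h3 - (e 0 * e 5 * e 7 + e 1 * e 3 * e 8 + e 2 * e 4 * e 6) * h2
  have g00 := cast_eq (K := K) h00
  have g01 := cast_eq (K := K) h01
  have g02 := cast_eq (K := K) h02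
  have g10 := cast_eq (K := K) h10
  have g11 := cast_eq (K := K) h11
  have g12 := cast_eq (K := K) h12
  have g20 := cast_eq (K := K) h20
  have g21 := cast_eq (K := K) h21
  have g22 := cast_eq (K := K) h22
  push_cast at g00 g01 g02 g10 g11 g12 g20 g21 g22
  refine ⟨⟨mt K e, dA⟩, e 9, e 10, e 11, e 12, ?_⟩
  show mt K e * _ = _ * mt K e
  ext i j
  rw [Matrix.mul_apply, Fin.sum_univ_three, Matrix.mul_apply, Fin.sum_univ_three]
  fin_cases i <;> fin_cases j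
  · exact g00
  · exact g01
  · exact g02
  · exact g10
  · exact g11
  · exact g12
  · exact g20
  · exact g21
  · exact g22

/-- **Parity lemma for `SL_3(2)`.** -/
theorem parity {K : Type*} [Field K] [Finite K] (hK : Nat.card K = 2)
    {L U : SpecialLinearGroup (Fin 3) K} (hL : L ∈ LT 3 K) (hU : U ∈ UT 3 K) :
    ∃ G : SpecialLinearGroup (Fin 3) K, ∃ L' ∈ LT 3 K, ∃ U' ∈ UT 3 K, G * (L * U) * G⁻¹ = L' * U' ∧
      L'.1 1 0 = U'.1 0 1 ∧ L'.1 2 1 = U'.1 1 2 := by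
  have : Fact (Nat.Prime 2) := ⟨Nat.prime_two⟩
  obtain ⟨hch, hall⟩ := exists_cast hK
  obtain ⟨a, ha, ea⟩ := hall (L.1 1 0)
  obtain ⟨b, hb, eb⟩ := hall (L.1 2 0)
  obtain ⟨c, hc, ec⟩ := hall (L.1 2 1)
  obtain ⟨x, hx, ex⟩ := hall (U.1 0 1)
  obtain ⟨y, hy, ey⟩ := hall (U.1 0 2)
  obtain ⟨z, hz, ez⟩ := hall (U.1 1 2)
  obtain ⟨i, hi, h0, h1, h2, h3, h4, h5⟩ := enc (.inl rfl) ha hb hc hx hy hz
  have h := allP
  rw [List.all_eq_true] at h
  have h6 := h i (List.mem_range.2 (by norm_num at hi; exact hi))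
  rw [ptstT, h0, h1, h2, h3, h4, h5] at h6
  obtain ⟨G, a', b', c', y', e⟩ := sound_par (K := K) h6
  refine ⟨G, lo3 a' b' c', lo3_mem _ _ _, up3 a' y' c', up3_mem _ _ _, ?_, rfl, rfl⟩
  rw [mul_inv_eq_iff_eq_mul]
  apply Subtype.ext
  show G.1 * (L * U).1 = (lo3 a' b' c' * up3 a' y' c').1 * G.1
  rw [mul_LU hL hU, mul_LU (lo3_mem _ _ _) (up3_mem _ _ _), ← ea, ← eb, ← ec, ← ex, ← ey, ← ez]
  exact e

end Cfsg.Agent.H374.Ore.Sl3
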