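import Cfsg.Agent.H374.Ore.Nf
import Cfsg.Agent.H374.Ore.Sl3
import Cfsg.Agent.H903.Ore.F4Conj
import Cfsg.Agent.H335.Sr.Inst
import Cfsg.Agent.H335.Sr.Symm
import Cfsg.Agent.H777.Ore.Base
import Cfsg.Agent.H194.Ore.Diag
import Cfsg.Agent.H928.Ore.Frame
import Cfsg.Agent.S1054

/-!
# `F₄(q)`, `q ≥ 3`: commutators and products of four involutions (S2443, S4171)

`J = {0, 2, 3}` (long `A₂` times short `A₁`); `c₁ = φ₃(X) φ₂(C)`, `c₂ = φ₃(Y) φ₂(C')` with `X`, `Y` irreducible.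
-/

set_option autoImplicit false
set_option linter.unusedSectionVars false

namespace Cfsg.Agent.H374.Ore.F4

open CoxeterSystem Cfsg.Agent.ChevalleyStructure.CoxeterGeom Cfsg.Agent.Tits.Roots Cfsg.Agent.Tits.Core
  Cfsg.Agent.Nodes.Reps Cfsg.Agent.Nodes.BNOf Cfsg.Agent.Nodes.RGDLib Cfsg.Agent.Nodes.Bruhat
  Cfsg.Agent.Nodes.OppDec Cfsg.Agent.Nodes.LeviDec Cfsg.Agent.Nodes.KindChev Cfsg.Agent.Nodes.ChevCls
  Cfsg.Agent.OddHalf.NI.ModelChev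
  Cfsg.Agent.H162.GaussDec Cfsg.Agent.H162.GaussLevi Cfsg.Agent.H162.GaussSL
  Cfsg.Agent.H162.GaussMain Cfsg.Agent.H162.GaussExc Cfsg.Agent.H162.GaussExcMain
open Cfsg.Lie Cfsg.Agent.ChevalleyStructure Cfsg.Agent.ChevalleyStructure.Elts
  Cfsg.Agent.ChevalleyStructure.RootVec Cfsg.Agent.ChevalleyStructure.NPerm
  Cfsg.Agent.ChevalleyStructure.CoxeterGeomTypes Cfsg.Agent.Nodes.RGDChev Cfsg.Agent.KFacts.RgdChevCoord
open Cfsg.Agent.FixBN.FieldRGD (uu vv ww)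
open Cfsg.Agent.H335.Sr Cfsg.Agent.H903.Ore.F4Conj Cfsg.Agent.H928.Ore.Frame Cfsg.Agent.H928.Ore.Fix
  Cfsg.Agent.H928.Ore.Block Cfsg.Agent.H374.Ore.Nf Cfsg.Agent.H777.Ore
open scoped MatrixGroups

universe u

/-- the product lemma in `SL₃(K)` -/
def M3 (K : Type u) [Field K] : Prop :=
  ∀ L ∈ LT 3 K, ∀ U ∈ UT 3 K, ∃ A B : SL(3, K), L * U = A * B ∧ Irreducible A.1.charpoly ∧ Irreducible B.1.charpoly ∧
    (B.1.charpoly = A.1.charpoly ∨ B.1.charpoly = (A⁻¹).1.charpoly)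

/-- diagonalisation of the irreducible elements -/
def Dg (K : Type u) [Field K] : Prop :=
  ∀ X : SL(3, K), Irreducible X.1.charpoly → ∃ (K' : Type u) (_ : Field K') (_ : Finite K') (ι : K →+* K') (a b : K'ˣ)
    (P : SL(3, K')), Matrix.SpecialLinearGroup.map ι X = P * dg3 a b * P⁻¹ ∧ (a : K') ∉ Set.range ι ∧
      ((a⁻¹ * b : K'ˣ) : K') ∉ Set.range ι ∧ ((b⁻¹ : K'ˣ) : K') ∉ Set.range ι

/-- the nodes of the Levi subgroup -/
abbrev JF : Set (Fin 4) := {k | k ≠ 1}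

/-- the unipotent radical -/
abbrev VF (K : Type u) [Field K] : Subgroup ↥(chevF4.group K) :=
  VJ CoxeterMatrix.F₄.toCoxeterSystem hF.isCartan (XX chevF4 4 K) JF

/-- the opposite unipotent radical -/
abbrev VNF (K : Type u) [Field K] : Subgroup ↥(chevF4.group K) :=
  VNJ CoxeterMatrix.F₄.toCoxeterSystem hF.isCartan (XX chevF4 4 K) JF

section

variable {K : Type u} [Field K] {φ₃ : SL(3, K) →* ↥(chevF4.group K)} {φ₂ : SL(2, K) →* ↥(chevF4.group K)}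

/-- `φ₂` is the rank one group of the node `0` -/
theorem phi2_eq (B : Blk K φ₃ φ₂) : φ₂ = sl hF 0 := by
  refine Cfsg.Agent.H162.GaussReg.hom_ext fun a b hab c => ?_
  have h33 : chevF4.simple ((0 : Fin 4) : ℕ) = 33 := by decide +kernel
  have h14 : chevF4.neg 33 = 14 := by decide +kernel
  have hlt : 33 < chevF4.nroots := by decide +kernel
  rw [B.h₂]
  fin_cases a <;> fin_cases b
  · exact absurd rfl hab
  · rw [one_mul]
    refine Eq.trans ?_ (congrArg (sl hF 0) (tv_uu (F := K) (by decide) c)).symm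
    rw [sl_uu, ← vec_simple hF 0, h33]
    rfl
  · rw [one_mul]
    refine Eq.trans ?_ (congrArg (sl hF 0) (tv_vv (F := K) (by decide) c)).symm
    rw [sl_vv, ← vec_simple hF 0, h33, ← vec_neg hF hlt, h14]
    rfl
  · exact absurd rfl hab

theorem tabF : (∀ a b, a ≠ b → ∀ k : Fin 4, k ∉ JF → vec chevF4 4 (r3 a b) k = 0) ∧
    (∀ a b, a ≠ b → chevF4.cartan 0 (r3 a b) = 0) ∧
    (∀ s < chevF4.nroots, vec chevF4 4 s 1 ≠ 0 →
      (chevF4.cartan 3 s = 0 ∧ chevF4.cartan 2 s = 0 ∧ (chevF4.cartan 0 s = 1 ∨ chevF4.cartan 0 s = -1)) ∨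
        Wt (chevF4.cartan 3 s) (chevF4.cartan 2 s)) ∧ r3 0 1 = chevF4.simple 3 ∧ r3 1 2 = chevF4.simple 2 := by
  refine ⟨fun a b hab k hk => ?_, by decide +kernel, by decide +kernel, by decide +kernel, by decide +kernel⟩
  have : k = 1 := by simpa using hk
  subst this
  exact rJ.1 a b hab

end

section

variable {K : Type u} [Field K] {φ₃ : SL(3, K) →* ↥(chevF4.group K)} {φ₂ : SL(2, K) →* ↥(chevF4.group K)}

/-! ### Fixed points -/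

theorem prod_mulSingle (ρ : Kˣ) (s : ℕ) : ∏ k : Fin 4, (((Pi.mulSingle 0 ρ : Fin 4 → Kˣ) k : Kˣ) : K) ^ chevF4.cartan k s =
    (ρ : K) ^ chevF4.cartan 0 s := by
  rw [Finset.prod_eq_single (0 : Fin 4)]
  · rw [Pi.mulSingle_eq_same]
    rfl
  · intro k _ hk
    rw [Pi.mulSingle_eq_of_ne hk, Units.val_one, _root_.one_zpow]
  · intro h
    exact absurd (Finset.mem_univ _) h

theorem nf_s0 (B : Blk K φ₃ φ₂) {ρ : Kˣ} (hρ : ρ ≠ 1) {K' : Type u} [Field K'] [Finite K'] (ι : K →+* K') {X : SL(3, K)}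
    {a b : K'ˣ} {P : SL(3, K')} (hX : Matrix.SpecialLinearGroup.map ι X = P * dg3 a b * P⁻¹)
    (h1 : (a : K') ∉ Set.range ι) (h2 : ((a⁻¹ * b : K'ˣ) : K') ∉ Set.range ι)
    (h3 : ((b⁻¹ : K'ˣ) : K') ∉ Set.range ι) :
    NF (VF K) (th hF (Pi.mulSingle 0 ρ) * φ₃ X) ∧ NF (VNF K) (th hF (Pi.mulSingle 0 ρ) * φ₃ X) := by
  obtain ⟨φ₃', φ₂', B'⟩ := exists_blk K'
  obtain ⟨t1, t2, t3, t4, t5⟩ := tabF
  have hρ' : (ρ : K) ≠ 1 := fun h => hρ (Units.ext h)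
  refine nf_dg hF ι (ε := 1) (by norm_num) rt3.1 rt3.2.2.2 (φ := φ₃) (fun a b hab c => ?_) (φ' := φ₃')
    (fun a b hab c => ?_) (i := 3) (j := 2) t4 t5 (J := JF) t1 (σ := Pi.mulSingle 0 ρ) (fun a b hab => ?_)
    (fun s hs hk => ?_) hX h1 h2 h3
  · rw [B.h₃, Int.cast_one]
  · rw [B'.h₃, Int.cast_one]
  · rw [prod_mulSingle]
    have := t2 a b hab
    rw [this, zpow_zero]
  · obtain ⟨k, hk1, hk2⟩ := hk
    have : k = 1 := by simpa using hk1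
    subst this
    rcases t3 s hs hk2 with ⟨e1, e2, e3⟩ | h
    · refine Or.inl ⟨e1, e2, ?_⟩
      rw [prod_mulSingle]
      rcases e3 with e3 | e3
      · rw [e3, zpow_one]
        exact hρ'
      · rw [e3, zpow_neg_one]
        intro h
        exact hρ' (inv_eq_one.1 h)
    · exact Or.inr h

/-- the elements `C` which are allowed -/
def Ok (φ₃ : SL(3, K) →* ↥(chevF4.group K)) (φ₂ : SL(2, K) →* ↥(chevF4.group K)) (C : SL(2, K)) : Prop :=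
  ∀ X : SL(3, K), Irreducible X.1.charpoly → NF (VF K) (φ₃ X * φ₂ C) ∧ NF (VNF K) (φ₃ X * φ₂ C)

/-- diagonal matrices -/
def dm (ρ : Kˣ) : SL(2, K) := Cfsg.Agent.FixBN.FieldRGD.dd (ρ : K) ρ.ne_zero

theorem phi2_dm (B : Blk K φ₃ φ₂) (ρ : Kˣ) : φ₂ (dm ρ) = th hF (Pi.mulSingle 0 ρ) := by
  rw [th_mulSingle, phi2_eq B]
  rfl

theorem ok_of_conj [Finite K] (hD : Dg K) (B : Blk K φ₃ φ₂) {ρ : Kˣ} (hρ : ρ ≠ 1) (g : SL(2, K)) :
    Ok φ₃ φ₂ (g * dm ρ * g⁻¹) := by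
  intro X hX
  obtain ⟨p, hpc⟩ := CharP.exists K
  have : Fact p.Prime := ⟨(CharP.char_is_prime_or_zero K p).resolve_right (CharP.char_ne_zero_of_finite K p)⟩
  have R := rgd (K := K) hF CoxeterMatrix.F₄.toCoxeterSystem p
  have := finite_W hF CoxeterMatrix.F₄.toCoxeterSystem
  obtain ⟨K', i1, i2, ι, a, b, P, e, h1, h2, h3⟩ := hD X hX
  obtain ⟨n1, n2⟩ := nf_s0 B hρ ι e h1 h2 h3
  have e1 : φ₃ X * φ₂ (g * dm ρ * g⁻¹) = φ₂ g * (th hF (Pi.mulSingle 0 ρ) * φ₃ X) * (φ₂ g)⁻¹ := by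
    rw [← phi2_dm B, map_mul, map_mul, map_inv]
    have c1 := B.comm X g
    have c2 := B.comm X (dm ρ)
    have c3 := B.comm X g⁻¹
    rw [map_inv] at c3
    calc φ₃ X * (φ₂ g * φ₂ (dm ρ) * (φ₂ g)⁻¹) = (φ₃ X * φ₂ g) * φ₂ (dm ρ) * (φ₂ g)⁻¹ := by group
      _ = φ₂ g * (φ₃ X * φ₂ (dm ρ)) * (φ₂ g)⁻¹ := by rw [c1]; group
      _ = _ := by rw [c2]
  rw [e1]
  exact ⟨NF.conj (LJ_le_normalizer_VJ R JF (B.mem₂ g)) n1, NF.conj (LJ_le_normalizer_VNJ R JF (B.mem₂ g)) n2⟩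

theorem ok_of_cube [Finite K] (hK : Nat.card K = 3) (hD : Dg K) (B : Blk K φ₃ φ₂) {C : SL(2, K)} (hC : C ^ 3 = -1) :
    Ok φ₃ φ₂ C := by
  intro X hX
  have : Fact (Nat.Prime 3) := ⟨Nat.prime_three⟩
  obtain ⟨hch, hall⟩ := Cfsg.Agent.H374.Ore.Sl3.exists_cast hK
  obtain ⟨K', i1, i2, ι, a, b, P, e, h1, h2, h3⟩ := hD X hX
  have hch' : CharP K' 3 := charP_of_injective_ringHom ι.injective 3
  have hcube : ∀ k : K, k ^ 3 = k := by
    intro k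
    have := Fintype.ofFinite K
    have h := FiniteField.pow_card k
    rwa [← Nat.card_eq_fintype_card, hK] at h
  have key : ∀ x : K', x ∉ Set.range ι → x ^ 3 ∉ Set.range ι := by
    rintro x hx ⟨k, hk⟩
    refine hx ⟨k, ?_⟩
    have h4 : (ι k - x) ^ 3 = 0 := by
      rw [sub_pow_char, ← hk, ← map_pow, hcube, sub_self]
    exact sub_eq_zero.1 (pow_eq_zero_iff (by norm_num) |>.1 h4)
  have e3 : Matrix.SpecialLinearGroup.map ι (X ^ 3) = P * dg3 (a ^ 3) (b ^ 3) * P⁻¹ := by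
    have e4 : dg3 (a ^ 3) (b ^ 3) = dg3 a b ^ 3 := by
      apply Subtype.ext
      change Matrix.diagonal _ = (Matrix.diagonal ![(a : K'), ((a⁻¹ * b : K'ˣ) : K'), ((b⁻¹ : K'ˣ) : K')]) ^ 3
      rw [Matrix.diagonal_pow]
      congr 1
      funext i
      fin_cases i <;> simp [mul_pow]
    rw [map_pow, e, conj_pow, e4]
  have hne : (-1 : Kˣ) ≠ 1 := by
    intro h
    have h5 : (-1 : K) = 1 := congrArg Units.val h
    have h6 : (2 : K) = 0 := by linear_combination -h5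
    have h7 : (3 : K) = 0 := by
      have := CharP.cast_eq_zero K 3
      exact_mod_cast this
    have h8 : (1 : K) = 0 := by linear_combination h7 - h6
    exact one_ne_zero h8
  obtain ⟨n1, n2⟩ := nf_s0 B hne ι e3 (by rw [Units.val_pow_eq_pow_val]; exact key _ h1)
    (by
      have : (a ^ 3)⁻¹ * b ^ 3 = (a⁻¹ * b) ^ 3 := by rw [mul_pow, inv_pow]
      rw [this, Units.val_pow_eq_pow_val]; exact key _ h2)
    (by rw [← inv_pow, Units.val_pow_eq_pow_val]; exact key _ h3)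
  have e5 : (φ₃ X * φ₂ C) ^ 3 = th hF (Pi.mulSingle 0 (-1)) * φ₃ (X ^ 3) := by
    have c1 : Commute (φ₃ X) (φ₂ C) := B.comm X C
    have h9 : (-1 : SL(2, K)) = dm (-1) := by
      apply Subtype.ext
      change -1 = !![((-1 : Kˣ) : K), 0; 0, ((-1 : Kˣ) : K)⁻¹]
      ext i j
      fin_cases i <;> fin_cases j <;> simp
    rw [c1.mul_pow, ← map_pow, ← map_pow, hC, h9, B.comm, phi2_dm B]
  rw [← e5] at n1 n2
  exact ⟨fun x hx hc => n1 x hx (Cfsg.Agent.H162.GaussMain.conj_pow_fix hc 3),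
    fun x hx hc => n2 x hx (Cfsg.Agent.H162.GaussMain.conj_pow_fix hc 3)⟩

/-! ### The involutions -/

/-- symmetric intertwiners of determinant `-1` -/
theorem symm2 {C : SL(2, K)} (h : NS C) : ∃ H : Matrix (Fin 2) (Fin 2) K, H.transpose = H ∧
    C.1.transpose * H = H * C.1 ∧ H.det = -1 := by
  obtain ⟨g, hg⟩ := h.exists_comp
  obtain ⟨t, ht⟩ : ∃ t, t = C.1.trace := ⟨_, rfl⟩
  rw [← ht] at hg
  have e1 : g.1 * (g⁻¹).1 = 1 := by rw [← Units.val_mul, mul_inv_cancel, Units.val_one]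
  have e2 : (g⁻¹).1 * g.1 = 1 := by rw [← Units.val_mul, inv_mul_cancel, Units.val_one]
  obtain ⟨G, hG⟩ : ∃ G, G = g.1 := ⟨_, rfl⟩
  obtain ⟨G', hG'⟩ : ∃ G', G' = (g⁻¹).1 := ⟨_, rfl⟩
  rw [← hG, ← hG'] at e1 e2
  rw [← hG] at hg
  obtain ⟨m, hm⟩ : ∃ m : Matrix (Fin 2) (Fin 2) K, m = !![0, -1; 1, t] := ⟨_, rfl⟩
  obtain ⟨H, hH⟩ : ∃ H : Matrix (Fin 2) (Fin 2) K, H = !![1, 0; 0, -1] := ⟨_, rfl⟩
  rw [← hm] at hg
  have hHt : H.transpose = H := by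
    rw [hH]
    ext i j
    fin_cases i <;> fin_cases j <;> simp
  have hmH : m.transpose * H = H * m := by
    rw [hm, hH]
    ext i j
    fin_cases i <;> fin_cases j <;> simp [Matrix.mul_apply, Fin.sum_univ_two]
  have hHd : H.det = -1 := by rw [hH, Matrix.det_fin_two_of]; ring
  have hC : C.1 = G * m * G' := by
    calc C.1 = C.1 * (G * G') := by rw [e1, Matrix.mul_one]
      _ = (C.1 * G) * G' := by rw [Matrix.mul_assoc]
      _ = _ := by rw [hg]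
  refine ⟨G.det • (G'.transpose * H * G'), ?_, ?_, ?_⟩
  · rw [Matrix.transpose_smul, Matrix.transpose_mul, Matrix.transpose_mul, Matrix.transpose_transpose, hHt,
      Matrix.mul_assoc]
  · rw [Matrix.mul_smul, Matrix.smul_mul, hC]
    congr 1
    rw [Matrix.transpose_mul, Matrix.transpose_mul]
    calc G'.transpose * (m.transpose * G.transpose) * (G'.transpose * H * G')
        = G'.transpose * (m.transpose * (G.transpose * G'.transpose) * H * G') := by simp only [Matrix.mul_assoc]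
      _ = G'.transpose * ((m.transpose * H) * G') := by
        rw [← Matrix.transpose_mul, e2, Matrix.transpose_one, Matrix.mul_one]
      _ = G'.transpose * (H * (G' * G) * m * G') := by rw [hmH, e2, Matrix.mul_one]
      _ = _ := by simp only [Matrix.mul_assoc]
  · rw [Matrix.det_smul, Matrix.det_mul, Matrix.det_mul, Matrix.det_transpose, hHd, Fintype.card_fin]
    have e3 : G.det * G'.det = 1 := by rw [← Matrix.det_mul, e1, Matrix.det_one]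
    linear_combination (-(G.det * G'.det + 1)) * e3

/-- **the involution** -/
theorem exists_inv [Finite K] (B : Blk K φ₃ φ₂) {X : SL(3, K)} (hX : Irreducible X.1.charpoly) {C : SL(2, K)}
    (hC : NS C) : ∃ y : ↥(chevF4.group K), y * y = 1 ∧ y * (φ₃ X * φ₂ C) * y⁻¹ = (φ₃ X * φ₂ C)⁻¹ := by
  obtain ⟨w, z, hw, Z⟩ := zF4 K hF CoxeterMatrix.F₄.toCoxeterSystem (fun _ => 1) (fun _ => .inl rfl)
  obtain ⟨d, hd, h3⟩ := Z.block (n := 1) (r := r3) (s := fun _ _ => 1) (φ := φ₃) rt3.1 rt3.2.2.2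
    (fun a b hab => hw _) (fun _ _ _ => one_mul 1) B.h₃
  obtain ⟨d', hd', h2⟩ := Z.block (n := 0) (r := r2) (s := fun _ _ => 1) (φ := φ₂) rt2.1 rt2.2
    (fun a b hab => hw _) (fun _ _ _ => one_mul 1) B.h₂
  have hdd : d' 0 * d' 1 = -1 := by
    have hi := simple_lt hF.inList (lt_rank hF 0)
    have hn : chevF4.neg (chevF4.simple (0 : Fin 4)) < chevF4.nroots := neg_lt hF.inList hi
    have e1 := h2 (Matrix.SpecialLinearGroup.transvection (show (0 : Fin 2) ≠ 1 by decide) 1)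
    rw [tau_transvection, phi2_eq B, tv_uu, tv_vv, sl_uu, sl_vv, Z.pos] at e1
    change xc hF (-sr 0) _ = xc hF (-sr 0) _ at e1
    rw [← vec_simple hF 0, ← vec_neg hF hi] at e1
    have e2 := xc_inj hF hn e1
    push_cast at e2
    linear_combination e2
  obtain ⟨H3, a1, a2, a3⟩ := exists_symm X.1 hX (∏ a, d a)
  obtain ⟨S, s1, s2⟩ := exists_S hd X a1 a2 a3
  obtain ⟨H2, b1, b2, b3⟩ := symm2 hC
  obtain ⟨S', s1', s2'⟩ := exists_S hd' C b1 b2 (by rw [b3, Fin.prod_univ_two, hdd])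
  obtain ⟨i1, i2⟩ := invol Z.sq h3 s1 s2
  obtain ⟨j1, j2⟩ := invol Z.sq h2 s1' s2'
  obtain ⟨k1, k2⟩ := combine Z.sq i1 j1 (B.comm S S') (B.comm X S').symm (B.comm S C) (B.comm X C) i2 j2
  exact ⟨_, k1, k2⟩

/-! ### The main theorems -/

/-- an element inverted by an element of square one is a product of two such elements -/
theorem two_of_inv {Y : Type*} [Group Y] {c y : Y} (hy : y * y = 1) (h : y * c * y⁻¹ = c⁻¹) :
    ∃ a b : Y, a ^ 2 = 1 ∧ b ^ 2 = 1 ∧ c = a * b := by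
  have hyi : y⁻¹ = y := inv_eq_of_mul_eq_one_left hy
  refine ⟨c * y, y, ?_, by rw [pow_two, hy], by rw [mul_assoc, hy, mul_one]⟩
  rw [pow_two]
  calc c * y * (c * y) = c * (y * c * y⁻¹) * (y * y) := by group
    _ = 1 := by rw [h, hy]; group

/-- the product lemma in `SL₂(K)` -/
def M2 (φ₃ : SL(3, K) →* ↥(chevF4.group K)) (φ₂ : SL(2, K) →* ↥(chevF4.group K)) : Prop :=
  ∀ L ∈ LT 2 K, ∀ U ∈ UT 2 K, ∃ C C' : SL(2, K), L * U = C * C' ∧ NS C ∧ NS C' ∧ C'.1.trace = C.1.trace ∧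
    Ok φ₃ φ₂ C ∧ Ok φ₃ φ₂ C'

theorem base [Finite K] (B : Blk K φ₃ φ₂) (h3 : M3 K) (h2 : M2 φ₃ φ₂)
    {v u : ↥(chevF4.group K)} (hv : v ∈ UNJ CoxeterMatrix.F₄.toCoxeterSystem hF.isCartan (XX chevF4 4 K) JF)
    (hu : u ∈ UJ CoxeterMatrix.F₄.toCoxeterSystem hF.isCartan (XX chevF4 4 K) JF) :
    ∃ c₁ c₂, v * u = c₁ * c₂ ∧ LP CoxeterMatrix.F₄.toCoxeterSystem hF.isCartan (TT chevF4 K) (XX chevF4 4 K) JF c₁ c₂ ∧
      (∃ y, c₂ = y * c₁⁻¹ * y⁻¹) ∧ (∃ a b : ↥(chevF4.group K), a ^ 2 = 1 ∧ b ^ 2 = 1 ∧ c₁ = a * b) ∧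
      ∃ a b : ↥(chevF4.group K), a ^ 2 = 1 ∧ b ^ 2 = 1 ∧ c₂ = a * b := by
  obtain ⟨A₁, hA₁, C₁, hC₁, rfl⟩ := B.mem_UNJ hv
  obtain ⟨A₂, hA₂, C₂, hC₂, rfl⟩ := B.mem_UJ hu
  obtain ⟨X, Y, e3, hX, hY, hXY⟩ := h3 _ hA₁ _ hA₂
  obtain ⟨C, C', e2, n1, n2, ht, o1, o2⟩ := h2 _ hC₁ _ hC₂
  refine ⟨φ₃ X * φ₂ C, φ₃ Y * φ₂ C', ?_, ⟨mul_mem (B.mem₃ _) (B.mem₂ _), mul_mem (B.mem₃ _) (B.mem₂ _), (o1 X hX).2,
    (o2 Y hY).1⟩, B.conj hX hY hXY n1 n2 ht, ?_, ?_⟩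
  · have c1 := B.comm A₂ C₁
    have c2 := B.comm Y C
    calc φ₃ A₁ * φ₂ C₁ * (φ₃ A₂ * φ₂ C₂) = φ₃ A₁ * (φ₂ C₁ * φ₃ A₂) * φ₂ C₂ := by group
      _ = φ₃ (A₁ * A₂) * φ₂ (C₁ * C₂) := by rw [← c1, map_mul, map_mul]; group
      _ = φ₃ X * (φ₃ Y * φ₂ C) * φ₂ C' := by rw [e3, e2, map_mul, map_mul]; group
      _ = _ := by rw [c2]; group
  · obtain ⟨y, hy, h⟩ := exists_inv B hX n1
    exact two_of_inv hy h
  · obtain ⟨y, hy, h⟩ := exists_inv B hY n2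
    exact two_of_inv hy h

/-- **`F₄(q)` from the product lemmas.** -/
theorem main [Finite K] (hs : IsSimpleGroup ↥(chevF4.group K)) (B : Blk K φ₃ φ₂) (h3 : M3 K) (h2 : M2 φ₃ φ₂) :
    AllC ↥(chevF4.group K) ∧ Inv4 ↥(chevF4.group K) := by
  obtain ⟨p, hpc⟩ := CharP.exists K
  have : Fact p.Prime := ⟨(CharP.char_is_prime_or_zero K p).resolve_right (CharP.char_ne_zero_of_finite K p)⟩
  have R := rgd (K := K) hF CoxeterMatrix.F₄.toCoxeterSystem p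
  have := finite_W hF CoxeterMatrix.F₄.toCoxeterSystem
  have hcore : ∀ g : ↥(chevF4.group K), g ≠ 1 → g ∉ (RGD.B CoxeterMatrix.F₄.toCoxeterSystem hF.isCartan (TT chevF4 K)
      (XX chevF4 4 K)).normalCore := by
    intro g hg h
    have h1 := core_le_ker R (MonoidHom.id _) Function.surjective_id (fun x hx => by
      rw [MonoidHom.mem_ker] at hx
      change x = 1 at hx
      rw [hx]
      exact one_mem _) h
    exact hg h1
  have hG := G1_eq_top hF (K := K) CoxeterMatrix.F₄.toCoxeterSystem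
  have hconn := Cfsg.Agent.Nodes.ChevChart.irr_of Cfsg.Agent.Nodes.ChevChart.irrF
  constructor
  · intro g
    by_cases hg : g = 1
    · exact ⟨1, 1, by rw [hg]; group⟩
    · exact comm R hG (coord hF) hconn (fun v hv u hu => by
        obtain ⟨c₁, c₂, e1, e2, e3, -, -⟩ := base B h3 h2 hv hu
        exact ⟨c₁, c₂, e1, e2, e3⟩) (hcore g hg)
  · intro g
    by_cases hg : g = 1
    · exact ⟨1, 1, 1, 1, by group, by group, by group, by group, by rw [hg]; group⟩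
    · obtain ⟨a, b, c, d, h1, h2, h3, h4, e⟩ := four R hG (coord hF) hconn (fun v hv u hu => by
        obtain ⟨c₁, c₂, e1, e2, -, e4, e5⟩ := base B h3 h2 hv hu
        exact ⟨c₁, c₂, e1, e2, e4, e5⟩) (hcore g hg)
      rw [pow_two] at h1 h2 h3 h4
      exact ⟨a, b, c, d, h1, h2, h3, h4, e⟩

end

/-! ### The product lemmas in `SL₂(K)` -/

section

variable {K : Type u} [Field K] {φ₃ : SL(3, K) →* ↥(chevF4.group K)} {φ₂ : SL(2, K) →* ↥(chevF4.group K)}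

theorem m2_three [Finite K] (hK : Nat.card K = 3) (hD : Dg K) (B : Blk K φ₃ φ₂) : M2 φ₃ φ₂ := by
  intro L hL U hU
  have : Fact (Nat.Prime 3) := ⟨Nat.prime_three⟩
  obtain ⟨hch, hall⟩ := Cfsg.Agent.H374.Ore.Sl3.exists_cast hK
  have h3 : (3 : K) = 0 := by
    have := CharP.cast_eq_zero K 3
    exact_mod_cast this
  obtain ⟨C, C', e, n1, n2, ht, k1, k2⟩ := sl2_three h3 hL hU
  exact ⟨C, C', e, n1, n2, ht, ok_of_cube hK hD B k1, ok_of_cube hK hD B k2⟩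

theorem exists_rho [Finite K] (hK : 4 ≤ Nat.card K) : ∃ ρ : Kˣ, ρ ≠ ρ⁻¹ := by
  by_contra h
  push Not at h
  have := Fintype.ofFinite K
  have := Fintype.ofFinite Kˣ
  classical
  have h1 : ∀ u : Kˣ, u ^ 2 = 1 := fun u => by
    rw [pow_two]
    nth_rw 2 [h u]
    rw [mul_inv_cancel]
  have h2 := IsCyclic.card_pow_eq_one_le (α := Kˣ) (n := 2) (by norm_num)
  rw [Finset.filter_true_of_mem fun u _ => h1 u, Finset.card_univ, ← Nat.card_eq_fintype_card, Nat.card_units] at h2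
  omega

theorem m2_four [Finite K] (hK : 4 ≤ Nat.card K) (hD : Dg K) (B : Blk K φ₃ φ₂) : M2 φ₃ φ₂ := by
  intro L hL U hU
  obtain ⟨ρ, hρ⟩ := exists_rho (K := K) hK
  have hρ1 : ρ ≠ 1 := fun h => hρ (by rw [h, inv_one])
  have hρ2 : ρ⁻¹ ≠ 1 := fun h => hρ1 (inv_eq_one.1 h)
  have hr0 : (ρ : K) ≠ 0 := ρ.ne_zero
  have hne : (ρ : K) ≠ (ρ : K)⁻¹ := fun h => hρ (Units.ext (by rw [Units.val_inv_eq_inv_val]; exact h))
  have hd : (ρ : K) - (ρ : K)⁻¹ ≠ 0 := sub_ne_zero.2 hne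
  obtain ⟨c, hc⟩ : ∃ c, L.1 = !![1, 0; c, 1] := by
    refine ⟨L.1 1 0, ?_⟩
    have h := mem_LT.1 hL
    ext i j
    fin_cases i <;> fin_cases j
    · exact h.2 0
    · exact h.1 0 1 (by decide)
    · rfl
    · exact h.2 1
  obtain ⟨b, hb⟩ : ∃ b, U.1 = !![1, b; 0, 1] := by
    refine ⟨U.1 0 1, ?_⟩
    have h := mem_UT.1 hU
    ext i j
    fin_cases i <;> fin_cases j
    · exact h.2 0
    · rfl
    · exact h.1 1 0 (by decide)
    · exact h.2 1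
  have d1 : (dm ρ).1 = !![(ρ : K), 0; 0, (ρ : K)⁻¹] := rfl
  have d2 : (dm ρ⁻¹).1 = !![(ρ : K)⁻¹, 0; 0, (ρ : K)] := by
    change !![((ρ⁻¹ : Kˣ) : K), 0; 0, ((ρ⁻¹ : Kˣ) : K)⁻¹] = _
    rw [Units.val_inv_eq_inv_val, inv_inv]
  have e1 : (L * dm ρ).1 = !![(ρ : K), 0; c * ρ, (ρ : K)⁻¹] := by
    change L.1 * (dm ρ).1 = _
    rw [hc, d1, Matrix.mul_fin_two]
    simp
  have e2 : (dm ρ⁻¹ * U).1 = !![(ρ : K)⁻¹, (ρ : K)⁻¹ * b; 0, (ρ : K)] := by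
    change (dm ρ⁻¹).1 * U.1 = _
    rw [hb, d2, Matrix.mul_fin_two]
    simp
  have g1 : L * dm ρ = vv (c * ρ / ((ρ : K) - (ρ : K)⁻¹)) * dm ρ * (vv (c * ρ / ((ρ : K) - (ρ : K)⁻¹)))⁻¹ := by
    rw [eq_mul_inv_iff_mul_eq]
    apply Subtype.ext
    change (L * dm ρ).1 * !![1, 0; c * ρ / ((ρ : K) - (ρ : K)⁻¹), 1] =
      !![1, 0; c * ρ / ((ρ : K) - (ρ : K)⁻¹), 1] * (dm ρ).1
    rw [e1, d1, Matrix.mul_fin_two, Matrix.mul_fin_two]
    have : c * ρ * 1 + (ρ : K)⁻¹ * (c * ρ / ((ρ : K) - (ρ : K)⁻¹)) =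
        c * ρ / ((ρ : K) - (ρ : K)⁻¹) * ρ + 1 * 0 := by
      have h5 : c * ρ = c * ρ / ((ρ : K) - (ρ : K)⁻¹) * ((ρ : K) - (ρ : K)⁻¹) := by
        rw [div_mul_cancel₀ _ hd]
      linear_combination h5
    rw [this]
    simp
  have g2 : dm ρ⁻¹ * U = uu ((ρ : K)⁻¹ * b / ((ρ : K) - (ρ : K)⁻¹)) * dm ρ⁻¹ *
      (uu ((ρ : K)⁻¹ * b / ((ρ : K) - (ρ : K)⁻¹)))⁻¹ := by
    rw [eq_mul_inv_iff_mul_eq]
    apply Subtype.ext
    change (dm ρ⁻¹ * U).1 * !![1, (ρ : K)⁻¹ * b / ((ρ : K) - (ρ : K)⁻¹); 0, 1] =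
      !![1, (ρ : K)⁻¹ * b / ((ρ : K) - (ρ : K)⁻¹); 0, 1] * (dm ρ⁻¹).1
    rw [e2, d2, Matrix.mul_fin_two, Matrix.mul_fin_two]
    have : (ρ : K)⁻¹ * ((ρ : K)⁻¹ * b / ((ρ : K) - (ρ : K)⁻¹)) + (ρ : K)⁻¹ * b * 1 =
        1 * 0 + (ρ : K)⁻¹ * b / ((ρ : K) - (ρ : K)⁻¹) * ρ := by
      have h5 : (ρ : K)⁻¹ * b = (ρ : K)⁻¹ * b / ((ρ : K) - (ρ : K)⁻¹) * ((ρ : K) - (ρ : K)⁻¹) := by
        rw [div_mul_cancel₀ _ hd]
      linear_combination h5
    rw [this]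
    simp
  refine ⟨L * dm ρ, dm ρ⁻¹ * U, ?_, ?_, ?_, ?_, ?_, ?_⟩
  · have : dm ρ * dm ρ⁻¹ = 1 := by
      apply Subtype.ext
      change (dm ρ).1 * (dm ρ⁻¹).1 = 1
      rw [d1, d2, Matrix.mul_fin_two, Matrix.one_fin_two]
      simp [hr0]
    calc L * U = L * (dm ρ * dm ρ⁻¹) * U := by rw [this, mul_one]
      _ = _ := by group
  · refine Or.inr (Or.inr ?_)
    rw [e1]
    simpa using hne
  · refine Or.inr (Or.inr ?_)
    rw [e2]
    simpa using hne.symm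
  · rw [e1, e2, Matrix.trace_fin_two_of, Matrix.trace_fin_two_of]
    ring
  · rw [g1]
    exact ok_of_conj hD B hρ1 _
  · rw [g2]
    exact ok_of_conj hD B hρ2 _

end

/-! ### The rows -/

section

variable {K : Type u} [Field K] [Finite K]

theorem dg_all : Dg K := by
  intro X hX
  obtain ⟨K', i1, i2, ι, a, b, P, e, h1, h2, h3⟩ := Cfsg.Agent.H194.Ore.exists_dg3 hX
  exact ⟨K', i1, i2, ι, a, b, P, e, fun ⟨c, hc⟩ => h1 c hc, fun ⟨c, hc⟩ => h2 c hc, fun ⟨c, hc⟩ => h3 c hc⟩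

/-- **`F₄(3)`.** -/
theorem row_three (hK : Nat.card K = 3) : AllC ↥(chevF4.group K) ∧ Inv4 ↥(chevF4.group K) := by
  obtain ⟨φ₃, φ₂, B⟩ := exists_blk K
  exact main (Cfsg.Agent.S1054.result chevF4 (by simp)).1 B
    (fun L hL U hU => Cfsg.Agent.H374.Ore.Sl3.m3 (.inr hK) hL hU) (m2_three hK dg_all B)

/-- **`F₄(q)`, `q ≥ 4`**, from the product lemma in `SL₃(q)`. -/
theorem row_four (hK : 4 ≤ Nat.card K) (h3 : M3 K) : AllC ↥(chevF4.group K) ∧ Inv4 ↥(chevF4.group K) := by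
  obtain ⟨φ₃, φ₂, B⟩ := exists_blk K
  exact main (Cfsg.Agent.S1054.result chevF4 (by simp)).1 B h3 (m2_four hK dg_all B)

end

end Cfsg.Agent.H374.Ore.F4
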