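import Cfsg.Agent.H928.Ore.Block

/-!
# Fixed points of `s₀ φ(X)` after extension of scalars (S2443, S4171)

* `bc_phi`, `bc_sl`, `bc_th` : the base change on the blocks, on the rank one subgroups and on the torus;
* `nf_dg` : `ι X = P diag P⁻¹` with eigenvalues outside `K`: `s₀ φ(X)` has no fixed points on `V_J`, `V_J⁻`.
-/

set_option autoImplicit false
set_option linter.unusedSectionVars false

namespace Cfsg.Agent.H374.Ore.Nf

open CoxeterSystem Cfsg.Agent.ChevalleyStructure.CoxeterGeom Cfsg.Agent.Tits.Roots Cfsg.Agent.Tits.Core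
  Cfsg.Agent.Nodes.Reps Cfsg.Agent.Nodes.BNOf Cfsg.Agent.Nodes.RGDLib Cfsg.Agent.Nodes.Bruhat
  Cfsg.Agent.Nodes.OppDec Cfsg.Agent.Nodes.LeviDec Cfsg.Agent.Nodes.KindChev Cfsg.Agent.Nodes.ChevCls
  Cfsg.Agent.OddHalf.NI.ModelChev Cfsg.Agent.Nodes.StabComb
  Cfsg.Agent.H162.GaussDec Cfsg.Agent.H162.GaussLevi Cfsg.Agent.H162.GaussSL Cfsg.Agent.H162.GaussReg
  Cfsg.Agent.H928.Ore.Frame Cfsg.Agent.H928.Ore.Fix Cfsg.Agent.H928.Ore.Block
open Cfsg.Lie Cfsg.Agent.ChevalleyStructure Cfsg.Agent.ChevalleyStructure.Elts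
  Cfsg.Agent.ChevalleyStructure.RootVec Cfsg.Agent.ChevalleyStructure.NPerm
  Cfsg.Agent.ChevalleyStructure.CoxeterGeomTypes Cfsg.Agent.Nodes.RGDChev Cfsg.Agent.KFacts.RgdChevCoord
open Cfsg.Agent.FixBN.FieldRGD (uu vv dd ww)

universe u v

variable {D : ChevalleyDatum} {l : ℕ} {M : CoxeterMatrix (Fin l)} (hp : IsType D l M) {K : Type u} {K' : Type v}
  [Field K] [Field K'] (ι : K →+* K')

theorem map_transvection {n : ℕ} {a b : Fin n} (hab : a ≠ b) (c : K) :
    Matrix.SpecialLinearGroup.map ι (Matrix.SpecialLinearGroup.transvection hab c) =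
      Matrix.SpecialLinearGroup.transvection hab (ι c) := by
  apply Subtype.ext
  change (1 + Matrix.single a b c).map ι = 1 + Matrix.single a b (ι c)
  rw [Matrix.map_add ι (map_add ι), Matrix.map_one ι (map_zero ι) (map_one ι)]
  congr 1
  ext i j
  rw [Matrix.map_apply, Matrix.single_apply, Matrix.single_apply]
  split_ifs <;> simp

include hp in
/-- the base change of a block -/
theorem bc_phi {n : ℕ} {r : Fin n → Fin n → ℕ} {ε : ℤ} (hr : ∀ a b, a ≠ b → r a b < D.nroots)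
    {φ : Matrix.SpecialLinearGroup (Fin n) K →* ↥(D.group K)}
    (hφ : ∀ a b (hab : a ≠ b) c, φ (Matrix.SpecialLinearGroup.transvection hab c) =
      xc hp (vec D l (r a b)) ((ε : K) * c))
    {φ' : Matrix.SpecialLinearGroup (Fin n) K' →* ↥(D.group K')}
    (hφ' : ∀ a b (hab : a ≠ b) c, φ' (Matrix.SpecialLinearGroup.transvection hab c) =
      xc hp (vec D l (r a b)) ((ε : K') * c)) (X : Matrix.SpecialLinearGroup (Fin n) K) :
    bc D ι (φ X) = φ' (Matrix.SpecialLinearGroup.map ι X) := by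
  have h : (bc D ι).comp φ = φ'.comp (Matrix.SpecialLinearGroup.map ι) := by
    refine hom_ext fun a b hab c => ?_
    change bc D ι (φ _) = φ' (Matrix.SpecialLinearGroup.map ι _)
    rw [hφ, bc_xc hp ι (hr a b hab), map_transvection, hφ', map_mul, map_intCast]
  exact DFunLike.congr_fun h X

theorem tv_uu {F : Type*} [Field F] (h : (0 : Fin 2) ≠ 1) (c : F) :
    Matrix.SpecialLinearGroup.transvection h c = uu c := by
  apply Subtype.ext
  ext i j
  fin_cases i <;> fin_cases j <;> simp [Matrix.SpecialLinearGroup.transvection, Matrix.transvection, uu]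

theorem tv_vv {F : Type*} [Field F] (h : (1 : Fin 2) ≠ 0) (c : F) :
    Matrix.SpecialLinearGroup.transvection h c = vv c := by
  apply Subtype.ext
  ext i j
  fin_cases i <;> fin_cases j <;> simp [Matrix.SpecialLinearGroup.transvection, Matrix.transvection, vv]

/-- the base change of the rank one subgroups -/
theorem bc_sl (i : Fin l) (A : Matrix.SpecialLinearGroup (Fin 2) K) :
    bc D ι (sl hp i A) = sl hp i (Matrix.SpecialLinearGroup.map ι A) := by
  have hi := simple_lt hp.inList (lt_rank hp i)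
  have hn : D.neg (D.simple i) < D.nroots := neg_lt hp.inList hi
  have h : (bc D ι).comp (sl hp i) = (sl hp i).comp (Matrix.SpecialLinearGroup.map ι) := by
    refine hom_ext fun a b hab c => ?_
    change bc D ι (sl hp i _) = sl hp i (Matrix.SpecialLinearGroup.map ι _)
    rw [map_transvection]
    fin_cases a <;> fin_cases b
    · exact absurd rfl hab
    · rw [tv_uu, tv_uu, sl_uu, sl_uu, ← vec_simple hp i, bc_xc hp ι hi]
    · rw [tv_vv, tv_vv, sl_vv, sl_vv, ← vec_simple hp i, ← vec_neg hp hi, bc_xc hp ι hn]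
    · exact absurd rfl hab
  exact DFunLike.congr_fun h A

theorem bc_th (t : Fin l → Kˣ) : bc D ι (th hp t) = th hp fun i => Units.map (ι : K →* K') (t i) := by
  have key : ∀ t : Fin l → Kˣ, (bc D ι (th hp t) = th hp fun i => Units.map (ι : K →* K') (t i)) := by
    intro t
    rw [← Finset.univ_prod_mulSingle t]
    refine Finset.prod_induction (fun i => Pi.mulSingle i (t i))
      (fun s : Fin l → Kˣ => bc D ι (th hp s) = th hp fun i => Units.map (ι : K →* K') (s i)) ?_ ?_ ?_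
    · intro a b ha hb
      have e : (fun i => Units.map (ι : K →* K') ((a * b) i)) =
          (fun i => Units.map (ι : K →* K') (a i)) * fun i => Units.map (ι : K →* K') (b i) := by
        funext i
        exact map_mul _ _ _
      rw [map_mul, map_mul, ha, hb, e, map_mul]
    · have e : (fun i : Fin l => Units.map (ι : K →* K') ((1 : Fin l → Kˣ) i)) = 1 := by
        funext i
        exact map_one _
      rw [map_one, map_one, e, map_one]
    · intro i _
      have e : (fun j : Fin l => Units.map (ι : K →* K') ((Pi.mulSingle i (t i) : Fin l → Kˣ) j)) =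
          Pi.mulSingle i (Units.map (ι : K →* K') (t i)) := by
        funext j
        by_cases hj : j = i
        · subst hj
          rw [Pi.mulSingle_eq_same, Pi.mulSingle_eq_same]
        · rw [Pi.mulSingle_eq_of_ne hj, Pi.mulSingle_eq_of_ne hj, map_one]
      rw [e, th_mulSingle, th_mulSingle, bc_sl]
      congr 1
      apply Subtype.ext
      change (!![((t i : Kˣ) : K), 0; 0, ((t i : Kˣ) : K)⁻¹]).map ι = !![ι (t i), 0; 0, (ι (t i))⁻¹]
      ext a b
      fin_cases a <;> fin_cases b <;> simp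
  exact key t

/-- the weights of the natural module of `SL_3` and of its dual -/
def Wt (c d : ℤ) : Prop :=
  (c = 1 ∧ d = 0) ∨ (c = -1 ∧ d = 1) ∨ (c = 0 ∧ d = -1) ∨ (c = -1 ∧ d = 0) ∨ (c = 1 ∧ d = -1) ∨ (c = 0 ∧ d = 1)

instance (c d : ℤ) : Decidable (Wt c d) := by unfold Wt; infer_instance

theorem wt_ne {a b : K'ˣ} (h1 : (a : K') ∉ Set.range ι) (h2 : ((a⁻¹ * b : K'ˣ) : K') ∉ Set.range ι)
    (h3 : ((b⁻¹ : K'ˣ) : K') ∉ Set.range ι) {c d : ℤ} (h : Wt c d) (u : K) :
    ι u * ((a : K') ^ c * (b : K') ^ d) ≠ 1 := by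
  have ha : (a : K') ≠ 0 := a.ne_zero
  have hb : (b : K') ≠ 0 := b.ne_zero
  rw [Units.val_inv_eq_inv_val] at h3
  rw [Units.val_mul, Units.val_inv_eq_inv_val] at h2
  intro e
  have hu : ι u ≠ 0 := fun h0 => by rw [h0, zero_mul] at e; exact zero_ne_one e
  have e1 : ι u⁻¹ = (a : K') ^ c * (b : K') ^ d := by
    rw [map_inv₀]
    exact (eq_inv_of_mul_eq_one_right e).symm
  rcases h with ⟨rfl, rfl⟩ | ⟨rfl, rfl⟩ | ⟨rfl, rfl⟩ | ⟨rfl, rfl⟩ | ⟨rfl, rfl⟩ | ⟨rfl, rfl⟩
  · refine h1 ⟨u⁻¹, ?_⟩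
    rw [e1, zpow_one, zpow_zero, mul_one]
  · refine h2 ⟨u⁻¹, ?_⟩
    rw [e1, zpow_one, zpow_neg_one]
  · refine h3 ⟨u⁻¹, ?_⟩
    rw [e1, zpow_zero, zpow_neg_one, one_mul]
  · refine h1 ⟨u, ?_⟩
    rw [← inv_inv (ι u), ← map_inv₀, e1, zpow_zero, zpow_neg_one, mul_one, inv_inv]
  · refine h2 ⟨u, ?_⟩
    rw [← inv_inv (ι u), ← map_inv₀, e1, zpow_one, zpow_neg_one, mul_inv, inv_inv]
  · refine h3 ⟨u, ?_⟩
    rw [← inv_inv (ι u), ← map_inv₀, e1, zpow_zero, zpow_one, one_mul]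

/-- **No fixed points, eigenvalues outside the field.** -/
theorem nf_dg [Finite K'] {r : Fin 3 → Fin 3 → ℕ} {ε : ℤ} (hε : ε * ε = 1) (hr : ∀ a b, a ≠ b → r a b < D.nroots)
    (hneg : ∀ a b, a ≠ b → r b a = D.neg (r a b)) {φ : Matrix.SpecialLinearGroup (Fin 3) K →* ↥(D.group K)}
    (hφ : ∀ a b (hab : a ≠ b) c, φ (Matrix.SpecialLinearGroup.transvection hab c) =
      xc hp (vec D l (r a b)) ((ε : K) * c))
    {φ' : Matrix.SpecialLinearGroup (Fin 3) K' →* ↥(D.group K')}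
    (hφ' : ∀ a b (hab : a ≠ b) c, φ' (Matrix.SpecialLinearGroup.transvection hab c) =
      xc hp (vec D l (r a b)) ((ε : K') * c)) {i j : Fin l} (hi : r 0 1 = D.simple i) (hj : r 1 2 = D.simple j)
    {J : Set (Fin l)} (hJ : ∀ a b, a ≠ b → ∀ k, k ∉ J → vec D l (r a b) k = 0) {σ : Fin l → Kˣ}
    (hσ : ∀ a b, a ≠ b → ∏ k : Fin l, ((σ k : Kˣ) : K) ^ D.cartan k (r a b) = 1)
    (htab : ∀ s < D.nroots, (∃ k, k ∉ J ∧ vec D l s k ≠ 0) → (D.cartan i s = 0 ∧ D.cartan j s = 0 ∧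
      ∏ k : Fin l, ((σ k : Kˣ) : K) ^ D.cartan k s ≠ 1) ∨ Wt (D.cartan i s) (D.cartan j s))
    {X : Matrix.SpecialLinearGroup (Fin 3) K} {P : Matrix.SpecialLinearGroup (Fin 3) K'} {a b : K'ˣ}
    (hX : Matrix.SpecialLinearGroup.map ι X = P * dg3 a b * P⁻¹) (h1 : (a : K') ∉ Set.range ι)
    (h2 : ((a⁻¹ * b : K'ˣ) : K') ∉ Set.range ι) (h3 : ((b⁻¹ : K'ˣ) : K') ∉ Set.range ι) :
    NF (VJ M.toCoxeterSystem hp.isCartan (XX D l K) J) (th hp σ * φ X) ∧
      NF (VNJ M.toCoxeterSystem hp.isCartan (XX D l K) J) (th hp σ * φ X) := by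
  have hprod : ∀ s, ∏ k : Fin l, (((Units.map (ι : K →* K') (σ k) : K'ˣ)) : K') ^ D.cartan k s =
      ι (∏ k : Fin l, ((σ k : Kˣ) : K) ^ D.cartan k s) := by
    intro s
    rw [map_prod]
    refine Finset.prod_congr rfl fun k _ => ?_
    rw [map_zpow₀]
    rfl
  obtain ⟨g1, g2⟩ := nf_block hp (K := K') hε hr hneg hφ' hi hj hJ
    (σ := fun k => Units.map (ι : K →* K') (σ k)) (fun a b hab => by rw [hprod, hσ a b hab, map_one])
    (a := a) (b := b) (fun s hs hk => by
      rw [hprod]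
      rcases htab s hs hk with ⟨e1, e2, e3⟩ | h
      · rw [e1, e2, zpow_zero, zpow_zero, mul_one, mul_one]
        intro h
        exact e3 (ι.injective (by rw [h, map_one]))
      · exact wt_ne ι h1 h2 h3 h _) hX
  have e : bc D ι (th hp σ * φ X) = th hp (fun k => Units.map (ι : K →* K') (σ k)) *
      φ' (Matrix.SpecialLinearGroup.map ι X) := by
    rw [map_mul, bc_th, bc_phi hp ι hr hφ hφ']
  rw [← e] at g1 g2
  exact ⟨NF.of_hom _ (bc_injective D ι) (VJ_le_comap hp ι J) g1, NF.of_hom _ (bc_injective D ι) (VNJ_le_comap hp ι J) g2⟩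

end Cfsg.Agent.H374.Ore.Nf
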